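/-
Integral lattices in 24 coordinates with the frame vectors of shape `4 δᵢ ± 4 δⱼ`, squared lengths
divisible by 16 and not 16, and 196560 vectors of squared length 32: their mod 4 code is a Golay code.
-/
import Mathlib
import Cfsg.Agent.Lib.BinCode24.Basic

set_option autoImplicit false

namespace Cfsg.Agent.Lib.LeechChar

open Finset

/-- Coordinates. -/
abbrev Vec : Type := Fin 24 → ℤ

/-- Squared length. -/
def nsq (x : Vec) : ℤ := ∑ i, x i ^ 2

/-- The hypotheses on the coordinate lattice. -/
structure Framed (L : AddSubgroup Vec) : Prop where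
  axisMem : ∀ i, Pi.single i (8 : ℤ) ∈ L
  pairMem : ∀ i j, i ≠ j → Pi.single i (4 : ℤ) - Pi.single j 4 ∈ L
  parity : ∀ x ∈ L, ∀ i j, (2 : ℤ) ∣ x i - x j
  sqDvd : ∀ x ∈ L, (16 : ℤ) ∣ nsq x
  noSixteen : ∀ x ∈ L, nsq x ≠ 16
  count : {x : Vec | x ∈ L ∧ nsq x = 32}.ncard = 196560

variable {L : AddSubgroup Vec}

theorem four_mul_mem (h : Framed L) {k : Vec} (hk : 2 ∣ ∑ i, k i) : (fun i => 4 * k i) ∈ L := by
  classical
  obtain ⟨m, hm⟩ := hk
  have hdec : (fun i => 4 * k i) =
      (∑ i, k i • (Pi.single i (4 : ℤ) - Pi.single (0 : Fin 24) 4)) +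
        m • Pi.single (0 : Fin 24) (8 : ℤ) := by
    funext j
    simp only [Pi.add_apply, Finset.sum_apply, Pi.smul_apply, Pi.sub_apply, smul_eq_mul, mul_sub,
      Finset.sum_sub_distrib, ← Finset.sum_mul, Pi.single_apply, mul_ite, mul_zero,
      Finset.sum_ite_eq, Finset.mem_univ, if_true]
    rcases eq_or_ne j 0 with rfl | hj
    · simp only [if_true, ← Finset.sum_mul, hm]
      ring
    · simp only [if_neg hj, Finset.sum_const_zero]
      ring
  rw [hdec]
  refine add_mem (sum_mem fun i _ => zsmul_mem ?_ _) (zsmul_mem (h.axisMem 0) _)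
  rcases eq_or_ne i 0 with rfl | hi
  · rw [sub_self]; exact zero_mem _
  · exact h.pairMem i 0 hi

/-- The code of the even vectors. -/
def code (L : AddSubgroup Vec) : Submodule (ZMod 2) (Fin 24 → ZMod 2) where
  carrier := {w | ∃ y : Vec, (fun i => 2 * y i) ∈ L ∧ (fun i => (y i : ZMod 2)) = w}
  zero_mem' := ⟨0, by convert zero_mem L using 1; funext i; simp, by funext i; simp⟩
  add_mem' := by
    rintro _ _ ⟨y, hy, rfl⟩ ⟨z, hz, rfl⟩
    refine ⟨y + z, ?_, by funext i; simp⟩
    have := add_mem hy hz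
    convert this using 1
    funext i
    simp [mul_add]
  smul_mem' := by
    intro a w hw
    rcases (show a = 0 ∨ a = 1 by revert a; decide) with rfl | rfl
    · exact ⟨0, by convert zero_mem L using 1; funext i; simp, by funext i; simp⟩
    · rwa [one_smul]

/-- The standard lift of a word. -/
def lift (w : Fin 24 → ZMod 2) : Vec := fun i => if w i = 0 then 0 else 1

theorem lift_cast (w : Fin 24 → ZMod 2) (i : Fin 24) : (lift w i : ZMod 2) = w i := by
  unfold lift
  rcases (show w i = 0 ∨ w i = 1 by generalize w i = a; revert a; decide) with h | h <;> simp [h]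

theorem zmod_two_sub {a b : ℤ} (h : (a : ZMod 2) = (b : ZMod 2)) : (2 : ℤ) ∣ a - b := by
  have := (ZMod.intCast_eq_intCast_iff_dvd_sub b a 2).mp h.symm
  exact_mod_cast this

theorem exists_lift (h : Framed L) {w : Fin 24 → ZMod 2} (hw : w ∈ code L) :
    (fun i => 2 * lift w i) ∈ L ∨
      ∀ j, (fun i => 2 * (lift w i + 2 * (Pi.single j (1 : ℤ) : Vec) i)) ∈ L := by
  classical
  obtain ⟨y, hy, rfl⟩ := hw
  set w := fun i => (y i : ZMod 2)
  have hk : ∀ i, (2 : ℤ) ∣ y i - lift w i := fun i => zmod_two_sub (by rw [lift_cast])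
  choose k hk using hk
  rcases Int.even_or_odd (∑ i, k i) with he | ho
  · left
    have := sub_mem hy (four_mul_mem h (k := k) (even_iff_two_dvd.mp he))
    convert this using 1
    funext i
    have := hk i
    simp only [Pi.sub_apply]
    omega
  · right
    intro j
    have hsum : 2 ∣ ∑ i, (k i - (Pi.single j (1 : ℤ) : Vec) i) := by
      rw [Finset.sum_sub_distrib, Finset.sum_pi_single' j (1 : ℤ) univ, if_pos (mem_univ j)]
      obtain ⟨c, hc⟩ := ho
      exact ⟨c, by omega⟩
    have := sub_mem hy (four_mul_mem h hsum)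
    convert this using 1
    funext i
    have := hk i
    simp only [Pi.sub_apply]
    omega

theorem nsq_two_mul (y : Vec) : nsq (fun i => 2 * y i) = 4 * ∑ i, y i ^ 2 := by
  simp only [nsq, mul_pow, ← Finset.mul_sum]
  norm_num

theorem sum_lift_sq (w : Fin 24 → ZMod 2) : ∑ i, lift w i ^ 2 = (hammingNorm w : ℤ) := by
  rw [hammingNorm, Finset.card_filter, Nat.cast_sum]
  refine Finset.sum_congr rfl fun i _ => ?_
  unfold lift
  split_ifs <;> simp_all

theorem mem_of_all_four (h : Framed L) {y : Vec} (hy : (fun i => 4 * y i) ∈ L) :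
    2 ∣ ∑ i, y i := by
  classical
  rcases Int.even_or_odd (∑ i, y i) with he | ho
  · exact even_iff_two_dvd.mp he
  · exfalso
    have hsum : 2 ∣ ∑ i, (y i - (Pi.single (0 : Fin 24) (1 : ℤ) : Vec) i) := by
      rw [Finset.sum_sub_distrib, Finset.sum_pi_single' (0 : Fin 24) (1 : ℤ) univ,
        if_pos (mem_univ _)]
      obtain ⟨c, hc⟩ := ho
      exact ⟨c, by omega⟩
    refine h.noSixteen _ (sub_mem hy (four_mul_mem h hsum)) ?_
    have he : ((fun i => 4 * y i) - fun i => 4 * (y i - (Pi.single (0 : Fin 24) (1 : ℤ) : Vec) i)) =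
        fun i => 2 * (2 * (Pi.single (0 : Fin 24) (1 : ℤ) : Vec) i) := by
      funext i; simp only [Pi.sub_apply]; ring
    rw [he, nsq_two_mul]
    simp [Pi.single_apply, mul_pow]

/-- Each word has a lift of squared length four times its weight. -/
theorem exists_short_lift (h : Framed L) {w : Fin 24 → ZMod 2} (hw : w ∈ code L) (hne : w ≠ 0) :
    ∃ x ∈ L, nsq x = 4 * (hammingNorm w : ℤ) := by
  classical
  rcases exists_lift h hw with hl | hl
  · exact ⟨_, hl, by rw [nsq_two_mul, sum_lift_sq]⟩
  · obtain ⟨j, hj⟩ := Function.ne_iff.mp hne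
    refine ⟨_, sub_mem (hl j) (h.axisMem j), ?_⟩
    rw [← sum_lift_sq, nsq, Finset.mul_sum]
    refine Finset.sum_congr rfl fun i _ => ?_
    simp only [Pi.sub_apply, Pi.single_apply, lift]
    rcases eq_or_ne i j with rfl | hij
    · rw [Pi.zero_apply] at hj
      rw [if_pos rfl, if_pos rfl, if_neg hj]; norm_num
    · rw [if_neg hij, if_neg hij]; ring

theorem weight_facts (h : Framed L) {w : Fin 24 → ZMod 2} (hw : w ∈ code L) :
    4 ∣ hammingNorm w ∧ (w ≠ 0 → 8 ≤ hammingNorm w) := by
  rcases eq_or_ne w 0 with rfl | hne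
  · simp
  obtain ⟨x, hx, hn⟩ := exists_short_lift h hw hne
  have h16 := h.sqDvd x hx
  have hno := h.noSixteen x hx
  rw [hn] at h16 hno
  have hpos := hammingNorm_pos_iff.mpr hne
  exact ⟨by omega, fun _ => by omega⟩

theorem code_orth (h : Framed L) {v w : Fin 24 → ZMod 2} (hv : v ∈ code L) (hw : w ∈ code L) :
    ∑ i, v i * w i = 0 := by
  have h1 := (weight_facts h hv).1
  have h2 := (weight_facts h hw).1
  have h3 := (weight_facts h (add_mem hv hw)).1
  rw [← BinCode24.sub_eq_add'] at h3
  rw [BinCode24.hammingNorm_eq, BinCode24.supp_sub] at h3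
  rw [BinCode24.hammingNorm_eq] at h1 h2
  have := BinCode24.symmDiff_card (BinCode24.supp v) (BinCode24.supp w)
  rw [BinCode24.dot_word, ZMod.natCast_eq_zero_iff_even]
  exact ⟨(BinCode24.supp v ∩ BinCode24.supp w).card / 2, by omega⟩

theorem finrank_le (h : Framed L) : Module.finrank (ZMod 2) (code L) ≤ 12 := by
  classical
  set C := code L
  let φ : (Fin 24 → ZMod 2) →ₗ[ZMod 2] Module.Dual (ZMod 2) C :=
    { toFun := fun v =>
        { toFun := fun c => ∑ i, (c : Fin 24 → ZMod 2) i * v i
          map_add' := fun a b => by simp [add_mul, Finset.sum_add_distrib]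
          map_smul' := fun r a => by simp [Finset.mul_sum, mul_assoc] }
      map_add' := fun a b => LinearMap.ext fun c => by simp [mul_add, Finset.sum_add_distrib]
      map_smul' := fun r a => LinearMap.ext fun c => by simp [Finset.mul_sum, mul_left_comm] }
  have hsurj : LinearMap.range φ = ⊤ := by
    rw [LinearMap.range_eq_top]
    intro f
    obtain ⟨g, hg⟩ := LinearMap.exists_extend f
    refine ⟨fun i => g (Pi.single i 1), LinearMap.ext fun c => ?_⟩
    show ∑ i, (c : Fin 24 → ZMod 2) i * g (Pi.single i 1) = f c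
    rw [← hg]
    show _ = g (c : Fin 24 → ZMod 2)
    conv_rhs => rw [pi_eq_sum_univ' (c : Fin 24 → ZMod 2)]
    simp [map_sum]
  have hker : C ≤ LinearMap.ker φ := fun v hv => by
    rw [LinearMap.mem_ker]
    exact LinearMap.ext fun c => code_orth h c.2 hv
  have h1 := φ.finrank_range_add_finrank_ker
  rw [hsurj, finrank_top, Subspace.dual_finrank_eq, Module.finrank_fintype_fun_eq_card,
    Fintype.card_fin] at h1
  have h2 := Submodule.finrank_mono hker
  omega

theorem card_code (L : AddSubgroup Vec) :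
    Nat.card (code L) = 2 ^ Module.finrank (ZMod 2) (code L) := by
  rw [Module.natCard_eq_pow_finrank (K := ZMod 2), Nat.card_zmod]

/-- Words of weight eight. -/
theorem card_octads_le (h : Framed L) :
    {w | w ∈ code L ∧ hammingNorm w = 8}.ncard ≤ 759 := by
  classical
  set O := (Set.toFinite {w | w ∈ code L ∧ hammingNorm w = 8}).toFinset
  rw [Set.ncard_eq_toFinset_card _ (Set.toFinite _)]
  have hdisj : (O : Set (Fin 24 → ZMod 2)).PairwiseDisjoint
      fun w => (BinCode24.supp w).powersetCard 5 := by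
    intro u hu v hv huv
    show Disjoint _ _
    rw [Finset.disjoint_left]
    intro s hsu hsv
    rw [Finset.mem_powersetCard] at hsu hsv
    rw [Finset.mem_coe, Set.Finite.mem_toFinset] at hu hv
    have h5 : 5 ≤ (BinCode24.supp u ∩ BinCode24.supp v).card := by
      rw [← hsu.2]; exact Finset.card_le_card (Finset.subset_inter hsu.1 hsv.1)
    have := BinCode24.symmDiff_card (BinCode24.supp u) (BinCode24.supp v)
    rw [← BinCode24.supp_sub, ← BinCode24.hammingNorm_eq, ← BinCode24.hammingNorm_eq,
      ← BinCode24.hammingNorm_eq, hu.2, hv.2] at this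
    have h8 := (weight_facts h (sub_mem hu.1 hv.1)).2 (sub_ne_zero.mpr huv)
    omega
  have hle := Finset.card_le_card (t := (univ : Finset (Fin 24)).powersetCard 5)
    (s := O.disjiUnion (fun w => (BinCode24.supp w).powersetCard 5) hdisj) (fun s hs => by
      obtain ⟨w, -, hw⟩ := Finset.mem_disjiUnion.mp hs
      rw [Finset.mem_powersetCard] at hw ⊢
      exact ⟨Finset.subset_univ _, hw.2⟩)
  rw [Finset.card_disjiUnion, Finset.card_powersetCard, Finset.card_univ, Fintype.card_fin,
    Finset.sum_const_nat (m := 56) (fun w hw => by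
      rw [Set.Finite.mem_toFinset] at hw
      rw [Finset.card_powersetCard, ← BinCode24.hammingNorm_eq, hw.2]
      rfl),
    show Nat.choose 24 5 = 42504 by decide] at hle
  show O.card ≤ 759
  omega

/-- Vectors `(± 4, ± 4, 0, …)`. -/
def shapeFour : Finset Vec :=
  ((univ : Finset (Fin 24)).powersetCard 2).biUnion fun s =>
    s.powerset.image fun t i => if i ∈ t then -4 else if i ∈ s then 4 else 0

theorem card_shapeFour : shapeFour.card ≤ 1104 := by
  refine Finset.card_biUnion_le.trans ?_
  refine (Finset.sum_le_sum fun s hs => Finset.card_image_le).trans ?_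
  rw [Finset.sum_const_nat (m := 4) fun s hs => by
      rw [Finset.card_powerset, (Finset.mem_powersetCard.mp hs).2]; norm_num,
    Finset.card_powersetCard, Finset.card_univ, Fintype.card_fin]
  decide

theorem sq_le_eight {y : Vec} (hy : ∑ i, y i ^ 2 = 8) (i : Fin 24) : -2 ≤ y i ∧ y i ≤ 2 := by
  have h := Finset.single_le_sum (f := fun i => y i ^ 2) (fun j _ => sq_nonneg _) (mem_univ i)
  rw [hy] at h
  constructor <;> nlinarith

theorem sq_mod_four (a : ℤ) : a ^ 2 = ((if (a : ZMod 2) = 0 then 0 else 1 : ℕ) : ℤ) +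
    4 * (if (a : ZMod 2) = 0 then (a / 2) ^ 2 else (a / 2) ^ 2 + a / 2) := by
  split_ifs with h
  · rw [ZMod.intCast_zmod_eq_zero_iff_dvd] at h
    obtain ⟨b, rfl⟩ := h
    push_cast
    rw [Int.mul_ediv_cancel_left _ (by norm_num : (2 : ℤ) ≠ 0)]
    ring
  · rw [ZMod.intCast_zmod_eq_zero_iff_dvd] at h
    push_cast at h ⊢
    have : a = 2 * (a / 2) + 1 := by omega
    nth_rw 1 [this]
    ring

/-- The even vectors of squared length 32. -/
theorem even_cases (h : Framed L) {y : Vec} (hy : (fun i => 2 * y i) ∈ L)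
    (h32 : nsq (fun i => 2 * y i) = 32) :
    (fun i => 2 * y i) ∈ shapeFour ∨
      ∃ w, (w ∈ code L ∧ hammingNorm w = 8) ∧ (fun i => (y i : ZMod 2)) = w ∧
        ∀ i, y i = 0 ∧ w i = 0 ∨ (y i = 1 ∨ y i = -1) ∧ w i ≠ 0 := by
  classical
  rw [nsq_two_mul] at h32
  have h8 : ∑ i, y i ^ 2 = 8 := by omega
  set w : Fin 24 → ZMod 2 := fun i => (y i : ZMod 2)
  have hwC : w ∈ code L := ⟨y, hy, rfl⟩
  have hexp : ∑ i, y i ^ 2 = (hammingNorm w : ℤ) +
      4 * ∑ i, (if w i = 0 then (y i / 2) ^ 2 else (y i / 2) ^ 2 + y i / 2) := by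
    rw [hammingNorm, Finset.card_filter, Nat.cast_sum, Finset.mul_sum, ← Finset.sum_add_distrib]
    refine Finset.sum_congr rfl fun i _ => ?_
    rw [sq_mod_four (y i)]
    simp only [w, ne_eq, ite_not]
  have hterm : ∀ i, 0 ≤ (if w i = 0 then (y i / 2) ^ 2 else (y i / 2) ^ 2 + y i / 2) := fun i => by
    split_ifs
    · exact sq_nonneg _
    · have : y i / 2 ≤ -1 ∨ 0 ≤ y i / 2 := by omega
      rcases this with h | h <;> nlinarith
  have hnn := Finset.sum_nonneg (s := univ) fun i _ => hterm i
  obtain ⟨h4w, hmin⟩ := weight_facts h hwC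
  rcases eq_or_ne w 0 with h0 | h0
  · left
    have hev : ∀ i, (2 : ℤ) ∣ y i := fun i => by
      have h' := congrFun h0 i
      simp only [w, Pi.zero_apply] at h'
      rw [ZMod.intCast_zmod_eq_zero_iff_dvd] at h'
      exact_mod_cast h'
    choose z hz using hev
    have hz2 : ∑ i, z i ^ 2 = 2 := by
      have : ∑ i, y i ^ 2 = 4 * ∑ i, z i ^ 2 := by
        rw [Finset.mul_sum]; exact Finset.sum_congr rfl fun i _ => by rw [hz]; ring
      omega
    have hz1 : ∀ i, z i = -1 ∨ z i = 0 ∨ z i = 1 := fun i => by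
      have h := Finset.single_le_sum (f := fun i => z i ^ 2) (fun j _ => sq_nonneg _) (mem_univ i)
      rw [hz2] at h
      have : -1 ≤ z i ∧ z i ≤ 1 := ⟨by nlinarith, by nlinarith⟩
      omega
    have hcard : (univ.filter fun i => z i ≠ 0).card = 2 := by
      have : ((univ.filter fun i => z i ≠ 0).card : ℤ) = ∑ i, z i ^ 2 := by
        rw [Finset.card_filter, Nat.cast_sum]
        refine Finset.sum_congr rfl fun i _ => ?_
        rcases hz1 i with h | h | h <;> simp [h]
      omega
    simp only [shapeFour, Finset.mem_biUnion, Finset.mem_image, Finset.mem_powerset]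
    refine ⟨univ.filter fun i => z i ≠ 0, Finset.mem_powersetCard.mpr ⟨subset_univ _, hcard⟩,
      univ.filter fun i => z i = -1, fun i hi => ?_, ?_⟩
    · simp only [Finset.mem_filter] at hi ⊢
      exact ⟨hi.1, by rw [hi.2]; norm_num⟩
    · funext i
      simp only [Finset.mem_filter, Finset.mem_univ, true_and]
      rcases hz1 i with h | h | h <;> rw [hz i, h] <;> simp
  · right
    have h8w : hammingNorm w = 8 := by
      have := hmin h0
      omega
    refine ⟨w, ⟨hwC, h8w⟩, rfl, fun i => ?_⟩
    have hz : ∑ i, (if w i = 0 then (y i / 2) ^ 2 else (y i / 2) ^ 2 + y i / 2) = 0 := by omega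
    have hi := (Finset.sum_eq_zero_iff_of_nonneg fun j _ => hterm j).mp hz i (mem_univ i)
    by_cases hwi : w i = 0
    · left
      rw [if_pos hwi] at hi
      have h' : (2 : ℤ) ∣ y i := by exact_mod_cast (ZMod.intCast_zmod_eq_zero_iff_dvd _ 2).mp hwi
      have := pow_eq_zero_iff (n := 2) two_ne_zero |>.mp hi
      exact ⟨by omega, hwi⟩
    · right
      rw [if_neg hwi] at hi
      have h' : ¬ (2 : ℤ) ∣ y i := fun hd =>
        hwi ((ZMod.intCast_zmod_eq_zero_iff_dvd _ 2).mpr (by exact_mod_cast hd))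
      have hb := sq_le_eight h8 i
      refine ⟨?_, hwi⟩
      omega

attribute [local irreducible] shapeFour

/-- The structure theorem. -/
theorem isGolay_code (h : Framed L) :
    BinCode24.IsGolay (code L) ∧ ∃ x ∈ L, ∀ i, ¬ (2 : ℤ) ∣ x i := by
  classical
  set S := {x : Vec | x ∈ L ∧ nsq x = 32} with hS
  have hSfin : S.Finite := Set.finite_of_ncard_ne_zero (by rw [h.count]; norm_num)
  set Se := {x : Vec | x ∈ S ∧ ∀ i, (2 : ℤ) ∣ x i}
  set So := {x : Vec | x ∈ S ∧ ∀ i, ¬ (2 : ℤ) ∣ x i}
  have hsplit : S ⊆ Se ∪ So := fun x hx => by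
    by_cases h0 : (2 : ℤ) ∣ x 0
    · exact Or.inl ⟨hx, fun i => by have := h.parity x hx.1 i 0; omega⟩
    · exact Or.inr ⟨hx, fun i => by have := h.parity x hx.1 i 0; omega⟩
  -- even vectors
  have hSe : Se.ncard ≤ 1104 + 128 * {w | w ∈ code L ∧ hammingNorm w = 8}.ncard := by
    set O := (Set.toFinite {w | w ∈ code L ∧ hammingNorm w = 8}).toFinset
    have hsub : Se ⊆ ↑shapeFour ∪ ⋃ w ∈ O, {x : Vec | x ∈ Se ∧
        ∀ i, x i = 0 ∧ w i = 0 ∨ (x i = 2 ∨ x i = -2) ∧ w i ≠ 0} := by
      rintro x hx
      choose y hy using hx.2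
      obtain rfl : x = fun i => 2 * y i := funext hy
      rcases even_cases h hx.1.1 hx.1.2 with h' | ⟨w, hw, hyw, hall⟩
      · exact Or.inl h'
      · refine Or.inr (Set.mem_biUnion (Finset.mem_coe.mpr ((Set.Finite.mem_toFinset _).mpr hw))
          ⟨hx, fun i => ?_⟩)
        rcases hall i with ⟨h1, h2⟩ | ⟨h1 | h1, h2⟩ <;> simp [h1, h2]
    have hfin : ∀ w : Fin 24 → ZMod 2, {x : Vec | x ∈ Se ∧
        ∀ i, x i = 0 ∧ w i = 0 ∨ (x i = 2 ∨ x i = -2) ∧ w i ≠ 0}.Finite := fun w =>
      hSfin.subset fun x hx => hx.1.1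
    have hle := Set.ncard_le_ncard hsub ((Finset.finite_toSet _).union
      (O.finite_toSet.biUnion fun w _ => hfin w))
    refine hle.trans ((Set.ncard_union_le _ _).trans (Nat.add_le_add ?_ ?_))
    · rw [Set.ncard_coe_finset]; exact card_shapeFour
    · refine (Finset.set_ncard_biUnion_le _ _).trans ?_
      rw [Set.ncard_eq_toFinset_card _ (Set.toFinite _), mul_comm]
      refine (Finset.sum_le_card_nsmul O _ 128 fun w hw => ?_).trans (le_of_eq (smul_eq_mul ..))
      rw [Set.Finite.mem_toFinset] at hw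
      obtain ⟨a, ha⟩ := Finset.card_pos.mp (show 0 < (BinCode24.supp w).card by
        rw [← BinCode24.hammingNorm_eq, hw.2]; norm_num)
      have hc : ((BinCode24.supp w).erase a).powerset.card = 128 := by
        rw [Finset.card_powerset, Finset.card_erase_of_mem ha, ← BinCode24.hammingNorm_eq, hw.2]
        norm_num
      rw [← hc, ← Set.ncard_coe_finset]
      refine Set.ncard_le_ncard_of_injOn
        (fun x : Vec => ((BinCode24.supp w).erase a).filter fun i => x i = -2)
        (fun x _ => Finset.mem_coe.mpr (Finset.mem_powerset.mpr (Finset.filter_subset _ _)))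
        ?_ (Finset.finite_toSet _)
      intro x hx y hy he
      funext i
      have hoff : ∀ i, i ≠ a → x i = y i := by
        intro i hia
        by_cases hwi : w i = 0
        · rcases hx.2 i with h1 | h1
          · rcases hy.2 i with h2 | h2
            · rw [h1.1, h2.1]
            · exact absurd hwi h2.2
          · exact absurd hwi h1.2
        · have hmem : i ∈ (BinCode24.supp w).erase a := by
            simp [BinCode24.supp, hia, hwi]
          have := congrArg (fun s : Finset (Fin 24) => i ∈ s) he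
          simp only [Finset.mem_filter, hmem, true_and, eq_iff_iff] at this
          rcases hx.2 i with h1 | h1
          · exact absurd h1.2 hwi
          · rcases hy.2 i with h2 | h2
            · exact absurd h2.2 hwi
            · rcases h1.1 with e1 | e1 <;> rcases h2.1 with e2 | e2 <;> omega
      by_contra hne
      have hia : i = a := by by_contra hia; exact hne (hoff i hia)
      subst hia
      have hwa : w i ≠ 0 := (Finset.mem_filter.mp ha).2
      refine h.noSixteen (x - y) (sub_mem hx.1.1.1 hy.1.1.1) ?_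
      rw [nsq, Finset.sum_eq_single i (fun j _ hj => by simp [hoff j hj])
        (fun h' => absurd (mem_univ i) h'), Pi.sub_apply]
      rcases hx.2 i with h1 | h1
      · exact absurd h1.2 hwa
      · rcases hy.2 i with h2 | h2
        · exact absurd h2.2 hwa
        · rcases (show x i - y i = 4 ∨ x i - y i = -4 by
              rcases h1.1 with e1 | e1 <;> rcases h2.1 with e2 | e2 <;> omega) with e | e <;>
            rw [e] <;> norm_num
  have hA := card_octads_le h
  have hC := card_code L
  have hd := finrank_le h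
  -- odd vectors
  have hodd : ∃ x ∈ L, ∀ i, ¬ (2 : ℤ) ∣ x i := by
    by_contra hc
    push Not at hc
    have hSo : So = ∅ := by
      ext x
      simp only [So, Set.mem_setOf_eq, Set.mem_empty_iff_false, iff_false, not_and, not_forall,
        not_not]
      exact fun hx => hc x hx.1
    have := (Set.ncard_le_ncard hsplit ((hSfin.subset fun x hx => hx.1).union
      (hSfin.subset fun x hx => hx.1))).trans (Set.ncard_union_le _ _)
    rw [hSo, Set.ncard_empty, h.count] at this
    omega
  obtain ⟨x0, hx0, hx0odd⟩ := hodd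
  have hone : ∀ x ∈ So, ∃ j, (x j = 3 ∨ x j = -3) ∧ ∀ i, i ≠ j → x i = 1 ∨ x i = -1 := by
    intro x hx
    have hb : ∀ i, x i = 1 ∨ x i = -1 ∨ x i = 3 ∨ x i = -3 := fun i => by
      have h1 := Finset.single_le_sum (f := fun i => x i ^ 2 - 1) (fun j _ => by
        have := hx.2 j
        have : x j ≤ -1 ∨ 1 ≤ x j := by omega
        rcases this with h | h <;> nlinarith) (mem_univ i)
      rw [Finset.sum_sub_distrib, show ∑ i, x i ^ 2 = 32 from hx.1.2] at h1
      simp at h1
      have := hx.2 i
      have : -4 ≤ x i ∧ x i ≤ 4 := ⟨by nlinarith, by nlinarith⟩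
      omega
    have hsum : ∑ i, (if x i = 3 ∨ x i = -3 then (8 : ℤ) else 0) = 8 := by
      have : ∑ i, x i ^ 2 = ∑ i, ((if x i = 3 ∨ x i = -3 then (8 : ℤ) else 0) + 1) :=
        Finset.sum_congr rfl fun i _ => by rcases hb i with h | h | h | h <;> simp [h]
      rw [Finset.sum_add_distrib, show ∑ i, x i ^ 2 = 32 from hx.1.2] at this
      simp at this
      omega
    rw [← Finset.sum_filter, Finset.sum_const, nsmul_eq_mul] at hsum
    have hcard : (univ.filter fun i => x i = 3 ∨ x i = -3).card = 1 := by omega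
    obtain ⟨j, hj⟩ := Finset.card_eq_one.mp hcard
    have hjm : j ∈ univ.filter fun i => x i = 3 ∨ x i = -3 := by simp [hj]
    refine ⟨j, (Finset.mem_filter.mp hjm).2, fun i hij => ?_⟩
    have hi : i ∉ univ.filter fun i => x i = 3 ∨ x i = -3 := by simp [hj, hij]
    simp only [Finset.mem_filter, Finset.mem_univ, true_and, not_or] at hi
    rcases hb i with h | h | h | h
    · exact Or.inl h
    · exact Or.inr h
    · exact absurd h hi.1
    · exact absurd h hi.2
  choose! pos hpos using hone
  have hhalf : ∀ x ∈ L, (∀ i, ¬ (2 : ℤ) ∣ x i) → (fun i => (((x i - x0 i) / 2 : ℤ) : ZMod 2)) ∈ code L := by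
    intro x hx hxo
    refine ⟨fun i => (x i - x0 i) / 2, ?_, rfl⟩
    have := sub_mem hx hx0
    convert this using 1
    funext i
    have h1 := hxo i
    have h2 := hx0odd i
    simp only [Pi.sub_apply]
    omega
  have hSo : So.ncard ≤ 24 * Nat.card (code L) := by
    have hT : ((Set.univ : Set (Fin 24)) ×ˢ (code L : Set (Fin 24 → ZMod 2))).ncard =
        24 * Nat.card (code L) := by
      rw [Set.ncard_prod, Set.ncard_univ, Nat.card_eq_fintype_card, Fintype.card_fin,
        ← Nat.card_coe_set_eq]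
      rfl
    rw [← hT]
    refine Set.ncard_le_ncard_of_injOn
      (fun x : Vec => (pos x, fun i => (((x i - x0 i) / 2 : ℤ) : ZMod 2)))
      (fun x hx => ⟨Set.mem_univ _, hhalf x hx.1.1 hx.2⟩) ?_ (Set.toFinite _)
    intro x hx y hy he
    simp only [Prod.mk.injEq] at he
    funext i
    have h4 := zmod_two_sub (congrFun he.2 i)
    have h0 := hx0odd i
    have hxi := hx.2 i
    have hyi := hy.2 i
    by_cases hij : i = pos x
    · have h1 := (hpos x hx).1
      have h2 := (hpos y hy).1
      rw [← hij] at h1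
      rw [← he.1, ← hij] at h2
      omega
    · have h1 := (hpos x hx).2 i hij
      have h2 := (hpos y hy).2 i (by rw [← he.1]; exact hij)
      omega
  have htot := (Set.ncard_le_ncard hsplit ((hSfin.subset fun x hx => hx.1).union
    (hSfin.subset fun x hx => hx.1))).trans (Set.ncard_union_le _ _)
  rw [h.count] at htot
  have h12 : Module.finrank (ZMod 2) (code L) = 12 := by
    by_contra hne
    have : 2 ^ Module.finrank (ZMod 2) (code L) ≤ 2 ^ 11 :=
      Nat.pow_le_pow_right (by norm_num) (by omega)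
    norm_num at this
    omega
  exact ⟨⟨Fintype.card_fin 24, h12, fun v hv w hw => code_orth h hv hw,
    fun w hw hne => (weight_facts h hw).2 hne⟩, x0, hx0, hx0odd⟩

end Cfsg.Agent.Lib.LeechChar
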