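/-
The characterisation of the rank-24 lattice without roots by its theta coefficients.
-/
import Mathlib
import Cfsg.Agent.Lib.Leech.Basic
import Cfsg.Agent.Lib.Lattice.EvenFormCount
import Cfsg.Agent.Lib.Design.WittAut
import Cfsg.Agent.Lib.Leech.Characterisation.Code

set_option autoImplicit false

namespace Cfsg.Agent.Lib.LeechChar

open Cfsg Finset Matrix

/-- The octads of a Golay code. -/
def octadSet (C : Submodule (ZMod 2) (Fin 24 → ZMod 2)) : Set (Finset (Fin 24)) :=
  {b | ∃ w ∈ C, hammingNorm w = 8 ∧ BinCode24.supp w = b}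

theorem steiner_octadSet {C : Submodule (ZMod 2) (Fin 24 → ZMod 2)} (h : BinCode24.IsGolay C) :
    IsSteinerSystem 5 8 (octadSet C) := by
  refine ⟨?_, fun s hs => ?_⟩
  · rintro _ ⟨w, -, hw, rfl⟩
    rwa [← BinCode24.hammingNorm_eq]
  · obtain ⟨w, ⟨⟨hwC, hw8⟩, hsw⟩, huniq⟩ := BinCode24.existsUnique_octad h hs
    refine ⟨BinCode24.supp w, ⟨⟨w, hwC, hw8, rfl⟩, hsw⟩, ?_⟩
    rintro _ ⟨⟨w', hw'C, hw'8, rfl⟩, hsw'⟩
    exact congrArg BinCode24.supp (huniq w' ⟨⟨hw'C, hw'8⟩, hsw'⟩)

theorem supp_comp {α β : Type*} [Fintype α] [Fintype β] [DecidableEq α] [DecidableEq β] (e : α ≃ β)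
    (w : α → ZMod 2) : BinCode24.supp (w ∘ e.symm) = (BinCode24.supp w).image e := by
  ext b
  simp only [BinCode24.supp, Finset.mem_image, Finset.mem_filter, Finset.mem_univ, true_and,
    Function.comp_apply]
  exact ⟨fun h => ⟨e.symm b, h, e.apply_symm_apply b⟩, by rintro ⟨a, ha, rfl⟩; rwa [e.symm_apply_apply]⟩

theorem mem_octads_iff (b : Finset GolayPt) :
    b ∈ octads ↔ ∃ w ∈ golayCode, hammingNorm w = 8 ∧ BinCode24.supp w = b := by
  constructor
  · rintro ⟨⟨w, hw, rfl⟩, h8⟩
    exact ⟨w, hw, h8, rfl⟩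
  · rintro ⟨w, hw, h8, rfl⟩
    exact ⟨⟨w, hw, rfl⟩, h8⟩

/-- Every abstract Golay code is a relabelling of the standard one. -/
theorem exists_relabel {C : Submodule (ZMod 2) (Fin 24 → ZMod 2)} (h : BinCode24.IsGolay C) :
    ∃ e : Fin 24 ≃ GolayPt, ∀ w, w ∈ C ↔ w ∘ e.symm ∈ golayCode := by
  obtain ⟨e, he⟩ := WittModel.unique24 (Fintype.card_fin 24) Golay.card_golayPt
    (steiner_octadSet h) Golay.octads_steiner
  refine ⟨e, fun w => ?_⟩
  let φ : (Fin 24 → ZMod 2) ≃ₗ[ZMod 2] (GolayPt → ZMod 2) :=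
    LinearEquiv.funCongrLeft (ZMod 2) (ZMod 2) e.symm
  have hmap : C.map φ.toLinearMap = golayCode := by
    rw [← BinCode24.span_octads h, ← BinCode24.span_octads WittAut.golay_isGolay, Submodule.map_span]
    congr 1
    ext v
    simp only [Set.mem_image, Set.mem_setOf_eq]
    constructor
    · rintro ⟨w, ⟨hw, h8⟩, rfl⟩
      have hmem : (BinCode24.supp w).image e ∈ octads := he ▸ ⟨_, ⟨w, hw, h8, rfl⟩, rfl⟩
      obtain ⟨u, hu, hu8, hus⟩ := (mem_octads_iff _).mp hmem
      have heq : φ w = u := by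
        rw [← BinCode24.word_supp (φ w), ← BinCode24.word_supp u, hus]
        exact congrArg BinCode24.word (supp_comp e w)
      exact heq ▸ ⟨hu, hu8⟩
    · rintro ⟨hv, h8⟩
      have hmem : BinCode24.supp v ∈ (fun b => b.image e) '' octadSet C := by
        rw [he]; exact (mem_octads_iff _).mpr ⟨v, hv, h8, rfl⟩
      obtain ⟨_, ⟨w, hw, hw8, rfl⟩, hws⟩ := hmem
      refine ⟨w, ⟨hw, hw8⟩, ?_⟩
      simp only at hws
      rw [← BinCode24.word_supp v, ← hws, ← supp_comp e w, BinCode24.word_supp]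
      rfl
  constructor
  · intro hw
    rw [← hmap]
    exact ⟨w, hw, rfl⟩
  · intro hw
    rw [← hmap] at hw
    obtain ⟨u, hu, he'⟩ := hw
    exact (φ.injective (show φ u = φ w from he')) ▸ hu

/-- Relabelled and signed coordinates. -/
def move (e : Fin 24 ≃ GolayPt) (s : GolayPt → ℤ) : Vec →+ (GolayPt → ℤ) where
  toFun x g := s g * x (e.symm g)
  map_zero' := by funext g; simp
  map_add' x y := by funext g; simp [mul_add]

theorem sqNorm_move (e : Fin 24 ≃ GolayPt) {s : GolayPt → ℤ} (hs : ∀ g, s g = 1 ∨ s g = -1)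
    (x : Vec) : sqNorm (move e s x) = nsq x := by
  unfold sqNorm nsq
  rw [← e.sum_comp]
  refine Finset.sum_congr rfl fun i _ => ?_
  show (s (e i) * x (e.symm (e i))) ^ 2 = _
  rw [Equiv.symm_apply_apply, mul_pow]
  rcases hs (e i) with h | h <;> rw [h] <;> ring

theorem move_injective (e : Fin 24 ≃ GolayPt) {s : GolayPt → ℤ} (hs : ∀ g, s g = 1 ∨ s g = -1) :
    Function.Injective (move e s) := by
  intro x y h
  funext i
  have := congrFun h (e i)
  simp only [move, AddMonoidHom.coe_mk, ZeroHom.coe_mk, Equiv.symm_apply_apply] at this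
  rcases hs (e i) with h' | h' <;> rw [h'] at this <;> linarith

/-- A coordinate lattice with the frame hypotheses is a signed relabelling of the standard lattice. -/
theorem exists_move {L : AddSubgroup Vec} (h : Framed L) :
    ∃ (e : Fin 24 ≃ GolayPt) (s : GolayPt → ℤ), (∀ g, s g = 1 ∨ s g = -1) ∧
      L.map (move e s) = leechLattice := by
  classical
  obtain ⟨hgolay, x0, hx0, hodd⟩ := isGolay_code h
  obtain ⟨e, he⟩ := exists_relabel hgolay
  set s : GolayPt → ℤ := fun g => if x0 (e.symm g) % 4 = 1 then 1 else -1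
  have hs : ∀ g, s g = 1 ∨ s g = -1 := fun g => by by_cases h : x0 (e.symm g) % 4 = 1 <;> simp [s, h]
  refine ⟨e, s, hs, ?_⟩
  set L' := L.map (move e s)
  have hsq : ∀ y ∈ L', (16 : ℤ) ∣ sqNorm y := by
    rintro _ ⟨x, hx, rfl⟩
    rw [sqNorm_move e hs]
    exact h.sqDvd x hx
  set y0 := move e s x0 with hy0
  have hy0mem : y0 ∈ L' := ⟨x0, hx0, rfl⟩
  have hy04 : ∀ g, y0 g % 4 = 1 := fun g => by
    show (s g * x0 (e.symm g)) % 4 = 1
    have := hodd (e.symm g)
    by_cases h : x0 (e.symm g) % 4 = 1 <;> simp [s, h] <;> omega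
  choose k hk using fun g => (show ∃ k, y0 g = 1 + 4 * k from ⟨y0 g / 4, by have := hy04 g; omega⟩)
  have hsum0 : ∑ g, y0 g = 24 + 4 * ∑ g, k g := by
    simp only [hk, Finset.sum_add_distrib, ← Finset.mul_sum, Finset.sum_const, Finset.card_univ,
      Golay.card_golayPt]
    norm_num
  have hy0Leech : Leech.IsLeech y0 := by
    refine Or.inr ⟨fun g => by have := hy04 g; omega, ?_, ?_⟩
    · have h16 := hsq y0 hy0mem
      have hexp : sqNorm y0 = 24 + 8 * ∑ g, k g + 16 * ∑ g, k g ^ 2 := by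
        unfold sqNorm
        simp only [hk, add_sq, one_pow, Finset.sum_add_distrib, Finset.mul_sum, Finset.sum_const,
          Finset.card_univ, Golay.card_golayPt, mul_pow]
        ring_nf
      rw [hexp] at h16
      omega
    · rw [show Leech.hw y0 = 0 from funext fun g => by
        simp only [Leech.hw, Pi.zero_apply, ZMod.intCast_zmod_eq_zero_iff_dvd]
        have := hy04 g
        omega]
      exact zero_mem _
  -- even vectors
  have hpar : ∀ (g : GolayPt) (y : Vec), (fun i => 2 * y i : Vec) ∈ L →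
      ((move e s (fun i => 2 * y i) g / 2 : ℤ) : ZMod 2) = (y (e.symm g) : ZMod 2) := by
    intro g y _
    show ((s g * (2 * y (e.symm g)) / 2 : ℤ) : ZMod 2) = _
    rw [mul_left_comm, Int.mul_ediv_cancel_left _ (by norm_num : (2 : ℤ) ≠ 0)]
    rcases hs g with h' | h' <;> rw [h'] <;> simp
  have heven : ∀ x ∈ L, (∀ i, (2 : ℤ) ∣ x i) → Leech.IsLeech (move e s x) := by
    intro x hx hev
    choose y hy using hev
    obtain rfl : x = fun i => 2 * y i := funext hy
    set v := move e s (fun i => 2 * y i)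
    have hv2 : ∀ g, (2 : ℤ) ∣ v g := fun g => ⟨s g * y (e.symm g), by
      show s g * (2 * y (e.symm g)) = _; ring⟩
    refine Or.inl ⟨fun g => by have := hv2 g; omega, ?_, ?_⟩
    · -- inner product with `y0`
      have h1 := hsq (v + y0) (add_mem ⟨_, hx, rfl⟩ hy0mem)
      have h2 := hsq v ⟨_, hx, rfl⟩
      have h3 := hsq y0 hy0mem
      have hdot : sqNorm (v + y0) = sqNorm v + sqNorm y0 + 2 * (∑ g, v g + 4 * ∑ g, k g * v g) := by
        unfold sqNorm
        rw [Finset.mul_sum, ← Finset.sum_add_distrib, ← Finset.sum_add_distrib, Finset.mul_sum,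
          ← Finset.sum_add_distrib]
        refine Finset.sum_congr rfl fun g _ => ?_
        rw [Pi.add_apply, hk]
        ring
      have h8 : (2 : ℤ) ∣ ∑ g, k g * v g :=
        Finset.dvd_sum fun g _ => dvd_mul_of_dvd_right (hv2 g) _
      rw [hdot] at h1
      omega
    · rw [show Leech.hw v = (fun i => (y i : ZMod 2)) ∘ e.symm from funext fun g => hpar g y hx]
      exact (he _).mp ⟨y, hx, rfl⟩
  apply le_antisymm
  · rintro _ ⟨x, hx, rfl⟩
    rw [Leech.mem_leech_iff]
    by_cases h0 : (2 : ℤ) ∣ x 0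
    · exact heven x hx fun i => by have := h.parity x hx i 0; omega
    · have hd : ∀ i, (2 : ℤ) ∣ (x - x0) i := fun i => by
        have := h.parity x hx i 0
        have := hodd i
        simp only [Pi.sub_apply]
        omega
      have h' := Leech.isLeech_add (heven _ (sub_mem hx hx0) hd) hy0Leech
      rwa [map_sub, sub_add_cancel] at h'
  · -- surjectivity
    have hev : ∀ z : GolayPt → ℤ, Leech.IsLeech z → (∀ g, z g % 2 = 0) → z ∈ L' := by
      intro z hz hz2
      rcases hz with ⟨-, hzs, hzc⟩ | ⟨h', -, -⟩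
      · obtain ⟨y, hy, hyw⟩ : (Leech.hw z ∘ e) ∈ code L := by
          rw [he, Function.comp_assoc, Equiv.self_comp_symm, Function.comp_id]
          exact hzc
        set v := move e s (fun i => 2 * y i) with hv
        have hvL : v ∈ L' := ⟨_, hy, rfl⟩
        have hvLeech : Leech.IsLeech v := heven _ hy fun i => dvd_mul_right _ _
        have hd4 : ∀ g, (4 : ℤ) ∣ z g - v g := fun g => by
          have h1 : ((z g / 2 : ℤ) : ZMod 2) = ((v g / 2 : ℤ) : ZMod 2) := by
            rw [hv, hpar g y hy]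
            have := congrFun hyw (e.symm g)
            simp only [Function.comp_apply, Equiv.apply_symm_apply] at this
            rw [this]; rfl
          have h2 := zmod_two_sub h1
          have h3 := hz2 g
          have h4 : (2 : ℤ) ∣ v g := ⟨s g * y (e.symm g), by
            show s g * (2 * y (e.symm g)) = _; ring⟩
          omega
        choose m hm using hd4
        have hmsum : (2 : ℤ) ∣ ∑ g, m g := by
          have h1 : ∑ g, z g = ∑ g, v g + 4 * ∑ g, m g := by
            rw [Finset.mul_sum, ← Finset.sum_add_distrib]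
            exact Finset.sum_congr rfl fun g _ => by linarith [hm g]
          rcases hvLeech with ⟨-, hvs, -⟩ | ⟨hvo, -, -⟩
          · omega
          · have h4 : v none % 2 = 1 := hvo none
            have h5 : (2 : ℤ) ∣ v none := ⟨s none * y (e.symm none), by
              show s none * (2 * y (e.symm none)) = _; ring⟩
            omega
        have hmem : (fun i => 4 * (s (e i) * m (e i))) ∈ L := by
          refine four_mul_mem h ?_
          have hdiff : (2 : ℤ) ∣ (∑ i, s (e i) * m (e i)) - ∑ i, m (e i) := by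
            rw [← Finset.sum_sub_distrib]
            refine Finset.dvd_sum fun i _ => ?_
            rcases hs (e i) with h' | h' <;> rw [h']
            · simp
            · exact ⟨-m (e i), by ring⟩
          rw [e.sum_comp m] at hdiff
          omega
        have hz' : z = v + move e s (fun i => 4 * (s (e i) * m (e i))) := by
          funext g
          show z g = v g + s g * (4 * (s (e (e.symm g)) * m (e (e.symm g))))
          rw [Equiv.apply_symm_apply]
          have := hm g
          rcases hs g with h' | h' <;> rw [h'] <;> linarith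
        rw [hz']
        exact add_mem hvL ⟨_, hmem, rfl⟩
      · exact absurd (hz2 none) (by have := h' none; omega)
    intro z hz
    rw [Leech.mem_leech_iff] at hz
    rcases hz with hz' | hz'
    · exact hev z (Or.inl hz') hz'.1
    · have hmem := hev (z + -y0) (Leech.isLeech_add (Or.inr hz') (Leech.isLeech_neg hy0Leech))
        fun g => by
          have := hz'.1 g
          have := hy04 g
          simp only [Pi.add_apply, Pi.neg_apply]
          omega
      have := add_mem hmem hy0mem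
      rwa [neg_add_cancel_right] at this

/-- A frame of 24 vectors. -/
theorem exists_frame {B : Matrix (Fin 24) (Fin 24) ℤ} (hsymm : B.IsSymm)
    (hpos : ∀ x : Vec, x ≠ 0 → 0 < x ⬝ᵥ (B *ᵥ x)) (heven : ∀ x : Vec, (2 : ℤ) ∣ x ⬝ᵥ (B *ᵥ x))
    (h2 : ∀ x : Vec, x ⬝ᵥ (B *ᵥ x) ≠ 2)
    (h4 : {x : Vec | x ⬝ᵥ (B *ᵥ x) = 4}.ncard = 196560)
    (h6 : {x : Vec | x ⬝ᵥ (B *ᵥ x) = 6}.ncard = 16773120)
    (h8 : {x : Vec | x ⬝ᵥ (B *ᵥ x) = 8}.ncard = 398034000) :
    ∃ v : Fin 24 → Vec, (∀ i, v i ⬝ᵥ (B *ᵥ v i) = 8) ∧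
      (∀ i j, i ≠ j → v i ⬝ᵥ (B *ᵥ v j) = 0) ∧ (∀ i j, ∃ z : Vec, v i - v j = (2 : ℤ) • z) := by
  classical
  obtain ⟨x, hx⟩ : ∃ x : Vec, x ⬝ᵥ (B *ᵥ x) = 8 :=
    Set.nonempty_of_ncard_ne_zero (s := {x : Vec | x ⬝ᵥ (B *ᵥ x) = 8}) (by rw [h8]; norm_num)
  set F := {y : Vec | y ⬝ᵥ (B *ᵥ y) = 8 ∧ ∀ i, (2 : ℤ) ∣ (x - y) i}
  have h48 : F.ncard = 48 :=
    (EvenForm.classes_complete (Fintype.card_fin 24) hsymm hpos heven h2 h4 h6 h8).1 x hx
  obtain ⟨enc, henc⟩ := Countable.exists_injective_nat Vec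
  set T := {y : Vec | y ∈ F ∧ enc y < enc (-y)}
  have hFfin : F.Finite := Set.finite_of_ncard_ne_zero (by rw [h48]; norm_num)
  have hneg : ∀ y ∈ F, -y ∈ F := fun y hy => ⟨by rw [EvenForm.quad_neg]; exact hy.1, fun i => by
    have := hy.2 i; simp only [Pi.sub_apply, Pi.neg_apply] at *; omega⟩
  have hne : ∀ y ∈ F, y ≠ -y := fun y hy hh => by
    have h0 : y = 0 := funext fun i => by
      have := congrFun hh i
      simp only [Pi.neg_apply, Pi.zero_apply] at *
      omega
    have := hy.1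
    rw [h0] at this
    simp at this
  have hF : F ⊆ T ∪ (fun y => -y) '' T := fun y hy => by
    rcases lt_trichotomy (enc y) (enc (-y)) with h | h | h
    · exact Or.inl ⟨hy, h⟩
    · exact absurd (henc h) (hne y hy)
    · exact Or.inr ⟨-y, ⟨hneg y hy, by rwa [neg_neg]⟩, neg_neg y⟩
  have hTfin : T.Finite := hFfin.subset fun y hy => hy.1
  have hT24 : 24 ≤ T.ncard := by
    have h1 := Set.ncard_le_ncard hF (hTfin.union (hTfin.image _))
    have h2' := Set.ncard_union_le T ((fun y => -y) '' T)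
    have h3 := Set.ncard_image_le (f := fun y : Vec => -y) hTfin
    omega
  have hTc : hTfin.toFinset.card = T.ncard := (Set.ncard_eq_toFinset_card _ hTfin).symm
  obtain ⟨T', hT', hT'c⟩ := Finset.exists_subset_card_eq (s := hTfin.toFinset) (n := 24) (by omega)
  let e := (Finset.equivFinOfCardEq hT'c).symm
  have hmem : ∀ i, (e i : Vec) ∈ T := fun i => (Set.Finite.mem_toFinset _).mp (hT' (e i).2)
  have hcong : ∀ i j, ∀ l, (2 : ℤ) ∣ ((e i : Vec) - e j) l := fun i j l => by
    have h1 := (hmem i).1.2 l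
    have h2 := (hmem j).1.2 l
    simp only [Pi.sub_apply] at *
    omega
  refine ⟨fun i => e i, fun i => (hmem i).1.1, fun i j hij => ?_,
    fun i j => EvenForm.exists_half _ _ (hcong i j)⟩
  rcases EvenForm.congr_small hsymm hpos heven h2 _ _ (hmem i).1.1.le (hmem j).1.1.le (hcong i j)
    with h | h | h
  · exact absurd (e.injective (Subtype.ext h.symm)) hij
  · exfalso
    have h1 := (hmem i).2
    have h2' := (hmem j).2
    rw [h, neg_neg] at h2'
    omega
  · exact h.2.2

theorem leech_characterisation {B : Matrix (Fin 24) (Fin 24) ℤ} (hsymm : B.IsSymm)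
    (hpos : ∀ x : Vec, x ≠ 0 → 0 < x ⬝ᵥ (B *ᵥ x)) (heven : ∀ x : Vec, (2 : ℤ) ∣ x ⬝ᵥ (B *ᵥ x))
    (h2 : ∀ x : Vec, x ⬝ᵥ (B *ᵥ x) ≠ 2)
    (h4 : {x : Vec | x ⬝ᵥ (B *ᵥ x) = 4}.ncard = 196560)
    (h6 : {x : Vec | x ⬝ᵥ (B *ᵥ x) = 6}.ncard = 16773120)
    (h8 : {x : Vec | x ⬝ᵥ (B *ᵥ x) = 8}.ncard = 398034000) :
    ∃ f : Vec ≃+ leechLattice,
      ∀ x : Vec, sqNorm ((f x : leechLattice) : GolayPt → ℤ) = 8 * (x ⬝ᵥ (B *ᵥ x)) := by
  classical
  obtain ⟨v, hv8, hv0, hv2⟩ := exists_frame hsymm hpos heven h2 h4 h6 h8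
  let c : Vec →+ Vec :=
    { toFun := fun x i => v i ⬝ᵥ (B *ᵥ x)
      map_zero' := by funext i; simp
      map_add' := fun x y => by funext i; simp [mulVec_add, dotProduct_add] }
  have hc : ∀ x i, c x i = v i ⬝ᵥ (B *ᵥ x) := fun x i => rfl
  have hcv : ∀ i j, c (v j) i = if i = j then 8 else 0 := fun i j => by
    rw [hc]
    split_ifs with h
    · subst h; exact hv8 i
    · exact hv0 i j h
  have hexp : ∀ x : Vec, (8 : ℤ) • x = ∑ i, c x i • v i := by
    intro x
    by_contra hne
    set z := (8 : ℤ) • x - ∑ i, c x i • v i with hz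
    have hz0 : z ≠ 0 := sub_ne_zero.mpr hne
    have horth : ∀ j, v j ⬝ᵥ (B *ᵥ z) = 0 := fun j => by
      rw [hz, mulVec_sub, dotProduct_sub, mulVec_smul, dotProduct_smul, Matrix.mulVec_sum,
        dotProduct_sum, Finset.sum_eq_single j (fun i _ hij => by
          rw [mulVec_smul, dotProduct_smul, hv0 j i hij.symm, smul_zero])
          (fun h => absurd (mem_univ j) h), mulVec_smul, dotProduct_smul, hv8, hc]
      simp only [smul_eq_mul]
      ring
    let b : Option (Fin 24) → Vec := fun o => o.elim z v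
    have hb : ∀ o o', o ≠ o' → b o ⬝ᵥ (B *ᵥ b o') = 0 := by
      rintro (_ | i) (_ | j) h
      · exact absurd rfl h
      · exact (EvenForm.dot_mulVec_comm hsymm _ _).trans (horth j)
      · exact horth i
      · exact hv0 i j fun h' => h (congrArg some h')
    have hbne : ∀ o, b o ⬝ᵥ (B *ᵥ b o) ≠ 0 := by
      rintro (_ | i)
      · exact (hpos z hz0).ne'
      · show v i ⬝ᵥ (B *ᵥ v i) ≠ 0
        rw [hv8]; norm_num
    have hli : LinearIndependent ℤ b := by
      rw [linearIndependent_iff']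
      intro s g hsum i hi
      have h := congrArg (fun w => b i ⬝ᵥ (B *ᵥ w)) hsum
      simp only [mulVec_zero, dotProduct_zero, Matrix.mulVec_sum, dotProduct_sum, mulVec_smul,
        dotProduct_smul, smul_eq_mul] at h
      rw [Finset.sum_eq_single i (fun o _ ho => by rw [hb i o ho.symm, mul_zero])
        (fun hni => absurd hi hni)] at h
      exact (mul_eq_zero.1 h).resolve_right (hbne i)
    have := hli.fintype_card_le_finrank
    rw [Module.finrank_fintype_fun_eq_card, Fintype.card_option, Fintype.card_fin] at this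
    omega
  have hnsq : ∀ x, nsq (c x) = 8 * (x ⬝ᵥ (B *ᵥ x)) := fun x => by
    have h := congrArg (fun w => w ⬝ᵥ (B *ᵥ x)) (hexp x)
    simp only [smul_dotProduct, sum_dotProduct, smul_eq_mul] at h
    rw [h, nsq]
    exact Finset.sum_congr rfl fun i _ => by rw [hc, sq]
  have hcinj : Function.Injective c := by
    rw [injective_iff_map_eq_zero]
    intro x hx
    by_contra hx0
    have h := hnsq x
    have := hpos x hx0
    rw [hx] at h
    simp [nsq] at h
    omega
  have hcol : ∀ j, c (v j) = Pi.single j 8 := fun j => funext fun i => by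
    rw [hcv, Pi.single_apply]
  have hL : Framed c.range :=
    { axisMem := fun i => ⟨v i, hcol i⟩
      pairMem := fun i j _ => by
        obtain ⟨z, hz⟩ := hv2 i j
        refine ⟨z, ?_⟩
        have h := congrArg c hz
        rw [map_sub, map_zsmul, hcol, hcol] at h
        funext l
        have h' := congrFun h l
        simp only [Pi.sub_apply, Pi.smul_apply, smul_eq_mul, Pi.single_apply] at h' ⊢
        split_ifs at h' ⊢ <;> omega
      parity := by
        rintro _ ⟨x, rfl⟩ i j
        obtain ⟨z, hz⟩ := hv2 i j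
        refine ⟨z ⬝ᵥ (B *ᵥ x), ?_⟩
        have h := congrArg (fun w => w ⬝ᵥ (B *ᵥ x)) hz
        simp only [sub_dotProduct, smul_dotProduct, smul_eq_mul] at h
        exact h
      sqDvd := by
        rintro _ ⟨x, rfl⟩
        rw [hnsq]
        have := heven x
        omega
      noSixteen := by
        rintro _ ⟨x, rfl⟩ h
        rw [hnsq] at h
        have := h2 x
        omega
      count := by
        rw [← h4, show {y : Vec | y ∈ c.range ∧ nsq y = 32} =
          c '' {x : Vec | x ⬝ᵥ (B *ᵥ x) = 4} from ?_, Set.ncard_image_of_injective _ hcinj]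
        ext y
        constructor
        · rintro ⟨⟨x, rfl⟩, h⟩
          rw [hnsq] at h
          exact ⟨x, by show _ = (4 : ℤ); omega, rfl⟩
        · rintro ⟨x, hx, rfl⟩
          refine ⟨⟨x, rfl⟩, ?_⟩
          rw [hnsq, show x ⬝ᵥ (B *ᵥ x) = 4 from hx]
          norm_num }
  obtain ⟨e, s, hs, hmap⟩ := exists_move hL
  let g : Vec →+ leechLattice := ((move e s).comp c).codRestrict leechLattice fun x =>
    hmap ▸ ⟨c x, ⟨x, rfl⟩, rfl⟩
  have hg : Function.Bijective g := by
    constructor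
    · intro x y h
      exact hcinj (move_injective e hs (congrArg Subtype.val h))
    · rintro ⟨z, hz⟩
      obtain ⟨_, ⟨x, rfl⟩, hx⟩ : z ∈ c.range.map (move e s) := hmap.symm ▸ hz
      exact ⟨x, Subtype.ext hx⟩
  refine ⟨AddEquiv.ofBijective g hg, fun x => ?_⟩
  show sqNorm (move e s (c x)) = _
  rw [sqNorm_move e hs, hnsq]

end Cfsg.Agent.Lib.LeechChar
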